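import Cfsg.Agent.H343.ExcFar_m3
import Cfsg.Agent.H72.Task106
import Cfsg.Agent.Prune
set_option linter.all false
prune_inst 0x7f00000000000000000000000000000000000000000000000000000000000000000000000000000000000000000000000000000000000000000000000000000000000000000000000000000000000000003fffffffffffffffffffffffffffbeffbdffffffff
open scoped Cfsg.Agent.FastGrp

/-!
# `TwoSep` for the even-dimensional orthogonal groups in odd characteristic (helper356)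

* `TwoSep.oplus`, `TwoSep.ominus` : for `PΩ^±_{2m}(q)`, `q` odd, `m ≥ 4`: `m` is odd, `q ≡ 5` (resp. `3`) mod 8, and the
  orders of `q` modulo the two primes are `m` (resp. `2m`) and `2(m-1)`.
-/

set_option autoImplicit false

namespace Cfsg.Agent.H356

open Cfsg.Agent.H377 Cfsg.Agent.H72.AdjOrth Cfsg.Agent.H72.AdjCoc

section

variable {F : Type*} [Field F] [Finite F]

/-- an isometry of order `4c` gives an element of `PΩ` whose order is divisible by `c` -/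
theorem elt2_of_elt {m : ℕ} {δ : ℤ} {c : ℕ} (h : Elt F m δ (4 * c)) : ∃ N, c ∣ N ∧ 0 < N ∧ Elt2 F m δ N := by
  obtain ⟨hN0, Q, g, hQ, hs, hg, ho⟩ := h
  have hfin : g ^ (4 * c) = 1 := by rw [← ho]; exact pow_orderOf_eq_one g
  have hc0 : 0 < 4 * c := hN0
  -- the unit
  let u : (Module.End F (Fin (2 * m) → F))ˣ := Units.ofPowEqOne g (4 * c) hfin hc0.ne'
  have hu : (u : Module.End F (Fin (2 * m) → F)) = g := rfl
  have hm1 : (-1 : (Module.End F (Fin (2 * m) → F))ˣ) ^ (2 : ℤ) = 1 := by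
    apply Units.ext
    rw [zpow_ofNat, Units.val_pow_eq_pow_val, Units.val_neg, Units.val_one, pow_two]
    ext v
    simp
  let Z : Subgroup (Module.End F (Fin (2 * m) → F))ˣ := Subgroup.zpowers (-1)
  have hZ : ∀ x, x ∈ Z ↔ x = 1 ∨ x = -1 := by
    intro x
    constructor
    · rintro ⟨k, rfl⟩
      rcases Int.even_or_odd k with hk | hk
      · left
        obtain ⟨j, rfl⟩ := hk
        change (-1 : (Module.End F (Fin (2 * m) → F))ˣ) ^ (j + j) = 1
        rw [← two_mul, zpow_mul, hm1, one_zpow]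
      · right
        obtain ⟨j, rfl⟩ := hk
        change (-1 : (Module.End F (Fin (2 * m) → F))ˣ) ^ (2 * j + 1) = -1
        rw [zpow_add, zpow_mul, hm1, one_zpow, one_mul, zpow_one]
    · rintro (rfl | rfl)
      · exact one_mem _
      · exact Subgroup.mem_zpowers _
  have hn : Z.Normal := by
    constructor
    intro x hx y
    rcases (hZ x).1 hx with rfl | rfl
    · rw [mul_one, mul_inv_cancel]
      exact one_mem _
    · have : y * (-1) * y⁻¹ = -1 := by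
        apply Units.ext
        simp only [Units.val_mul, Units.val_neg, Units.val_one]
        rw [mul_neg, mul_one, neg_mul, Units.mul_inv]
      rw [this]
      exact hx
  let y : (Module.End F (Fin (2 * m) → F))ˣ ⧸ Z := QuotientGroup.mk' Z (u ^ 2)
  have hy : ∀ j : ℕ, y ^ j = 1 ↔ (g ^ (2 * j) = 1 ∨ g ^ (2 * j) = -1) := by
    intro j
    rw [← map_pow, ← pow_mul]
    rw [QuotientGroup.mk'_apply, QuotientGroup.eq_one_iff, hZ]
    constructor
    · rintro (h | h)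
      · left
        have := congrArg Units.val h
        rwa [Units.val_pow_eq_pow_val, Units.val_one, hu] at this
      · right
        have := congrArg Units.val h
        rwa [Units.val_pow_eq_pow_val, Units.val_neg, Units.val_one, hu] at this
    · rintro (h | h)
      · left
        apply Units.ext
        rw [Units.val_pow_eq_pow_val, Units.val_one, hu, h]
      · right
        apply Units.ext
        rw [Units.val_pow_eq_pow_val, Units.val_neg, Units.val_one, hu, h]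
  have hpos : 0 < orderOf y := by
    rw [orderOf_pos_iff, isOfFinOrder_iff_pow_eq_one]
    refine ⟨2 * c, by omega, ?_⟩
    rw [hy]
    left
    rw [show 2 * (2 * c) = 4 * c by ring]
    exact hfin
  refine ⟨orderOf y, ?_, hpos, Q, g, hQ, hs, hg, fun j => ?_⟩
  · have h1 : g ^ (4 * orderOf y) = 1 := by
      have h2 := (hy (orderOf y)).1 (pow_orderOf_eq_one y)
      have h3 : g ^ (4 * orderOf y) = (g ^ (2 * orderOf y)) ^ 2 := by
        rw [← pow_mul]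
        congr 1
        ring
      rw [h3]
      rcases h2 with h2 | h2 <;> rw [h2]
      · exact one_pow 2
      · rw [pow_two]
        ext v
        simp
    have h2 := orderOf_dvd_of_pow_eq_one h1
    rw [ho] at h2
    exact Nat.dvd_of_mul_dvd_mul_left (by norm_num) h2
  · rw [← hy, orderOf_dvd_iff_pow_eq_one]

end

section

variable {F : Type*} [Field F] [Fintype F]

/-- primes not adjacent to two -/
theorem far_class {m : ℕ} (hm : 4 ≤ m) {δ : ℤ} (hδ : δ = 1 ∨ δ = -1) {r : ℕ} (hr : r.Prime) (hr2 : r ≠ 2)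
    (hcl : ¬ r ∣ Nat.card F → eta (ee (Nat.card F) r) < m ∨ (eta (ee (Nat.card F) r) = m ∧ sg (ee (Nat.card F) r) = δ))
    (hfar : ∀ N, 0 < N → Elt2 F m δ N → ¬ 2 * r ∣ N) :
    ¬ r ∣ Nat.card F ∧ ((eta (ee (Nat.card F) r) = m ∧ sg (ee (Nat.card F) r) = δ ∧ ¬ 8 ∣ tn (Nat.card F) (ee (Nat.card F) r)) ∨
      (eta (ee (Nat.card F) r) = m - 1 ∧ ¬ 4 ∣ tn (Nat.card F) (ee (Nat.card F) r) ∧
        ¬ (4 : ℤ) ∣ (Nat.card F : ℤ) - sg (ee (Nat.card F) r) * δ)) := by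
  have hro : Odd r := hr.odd_of_ne_two hr2
  have hw : ¬ wO (Nat.card F) r + 2 ≤ m := by
    intro h
    obtain ⟨ε, hε, h1⟩ := exists_elt_wO (F := F) hr hr2
    exact hfar _ (by have := hr.pos; omega) (elt2_two hro h1 (wO_pos hr) hε hδ h) dvd_rfl
  have hrq : ¬ r ∣ Nat.card F := by
    intro h
    apply hw
    rw [wO, if_pos (Or.inr h)]
    exact hm
  rw [wO, if_neg (by rw [not_or]; exact ⟨hr2, hrq⟩)] at hw
  refine ⟨hrq, ?_⟩
  set k := ee (Nat.card F) r with hk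
  have hk1 : 1 ≤ k := ee_pos hr hrq
  have hsg := sg_pm k
  have hrt : r ∣ tn (Nat.card F) k := dvd_tn card_pos' hr hrq
  have c2 : Nat.Coprime 2 r := Nat.coprime_two_left.2 hro
  have c4 : Nat.Coprime 4 r := Nat.Coprime.mul_left c2 c2
  have c8 : Nat.Coprime 8 r := Nat.Coprime.mul_left c4 c2
  have hs1 : sg k * sg k = 1 := sq_pm hsg
  rcases hcl hrq with h1 | ⟨h1, h2⟩
  · right
    have h3 : eta k = m - 1 := by omega
    refine ⟨h3, ?_, ?_⟩
    · intro h4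
      have h5 : Elt F (eta k) (sg k) (4 * r) := elt_tn hk1 (Nat.Coprime.mul_dvd_of_dvd_of_dvd c4 h4 hrt)
      have h6 := h5.add_two (n₂ := 1) le_rfl (mul_pm hsg hδ) ⟨2 * r, by ring⟩
      rw [h3, ← mul_assoc, hs1, one_mul, show m - 1 + 1 = m by omega, show 4 * r / 2 = 2 * r by omega] at h6
      exact hfar _ (by have := hr.pos; omega) h6 dvd_rfl
    · intro h4
      have h5 : Elt F (eta k) (sg k) r := elt_tn hk1 hrt
      have hq0 : 1 ≤ Nat.card F := card_pos'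
      have h6 : Elt F 1 (sg k * δ) 4 := by
        rcases mul_pm hsg hδ with h7 | h7
        · rw [h7] at h4 ⊢
          refine elt_tor_plus le_rfl ?_
          rw [pow_one]
          omega
        · rw [h7] at h4 ⊢
          refine elt_tor_minus le_rfl ?_
          rw [pow_one]
          omega
      have h7 := Elt.prod_two (by omega) hro h5 h6 ⟨2, rfl⟩
      rw [h3, ← mul_assoc, hs1, one_mul, show m - 1 + 1 = m by omega, show 4 / 2 = 2 from rfl,
        Nat.Coprime.lcm_eq_mul c2.symm, mul_comm] at h7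
      exact hfar _ (by have := hr.pos; omega) h7 dvd_rfl
  · left
    refine ⟨h1, h2, fun h4 => ?_⟩
    have h5 : Elt F (eta k) (sg k) (4 * (2 * r)) := by
      rw [show 4 * (2 * r) = 8 * r by ring]
      exact elt_tn hk1 (Nat.Coprime.mul_dvd_of_dvd_of_dvd c8 h4 hrt)
    rw [h1, h2] at h5
    obtain ⟨N, hN, hN0, h6⟩ := elt2_of_elt h5
    exact hfar N hN0 h6 hN

theorem eta_eq {k n : ℕ} (hk : 1 ≤ k) (h : eta k = n) : (Odd k ∧ k = n ∧ sg k = 1) ∨ (Even k ∧ k = 2 * n ∧ sg k = -1) := by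
  rw [eta] at h
  rw [sg]
  split_ifs at h ⊢ with h1
  · right
    obtain ⟨j, hj⟩ := h1
    exact ⟨⟨j, hj⟩, by omega, rfl⟩
  · left
    exact ⟨Nat.not_even_iff_odd.1 h1, h, rfl⟩

theorem pow_mod_eight_even {q n : ℕ} (hq : Odd q) (hn : Even n) : q ^ n % 8 = 1 := by
  obtain ⟨j, rfl⟩ := hn
  rw [← two_mul, pow_mul, Nat.pow_mod]
  have h1 : q ^ 2 % 8 = 1 := by
    have : q % 8 = 1 ∨ q % 8 = 3 ∨ q % 8 = 5 ∨ q % 8 = 7 := by
      obtain ⟨t, rfl⟩ := hq
      omega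
    rw [Nat.pow_mod]
    rcases this with h | h | h | h <;> rw [h]
  rw [h1, one_pow]
  rfl

theorem pow_mod_eight_odd {q n : ℕ} (hq : Odd q) (hn : Odd n) : q ^ n % 8 = q % 8 := by
  obtain ⟨j, rfl⟩ := hn
  rw [pow_succ, Nat.mul_mod, pow_mod_eight_even hq ⟨j, by ring⟩, one_mul, Nat.mod_mod]

/-- the arithmetic: the possible classes of far primes -/
theorem far_plus {m : ℕ} (hm : 4 ≤ m) {q k : ℕ} (hq : Odd q) (hk : 1 ≤ k)
    (h : (eta k = m ∧ sg k = 1 ∧ ¬ 8 ∣ tn q k) ∨ (eta k = m - 1 ∧ ¬ 4 ∣ tn q k ∧ ¬ (4 : ℤ) ∣ (q : ℤ) - sg k * 1)) :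
    (Even m ∧ ((k = m - 1 ∧ q % 4 = 3) ∨ (k = 2 * (m - 1) ∧ q % 4 = 1))) ∨
      (Odd m ∧ ((k = m ∧ q % 8 ≠ 1) ∨ (k = 2 * (m - 1) ∧ q % 4 = 1))) := by
  have hq4 : q % 4 = 1 ∨ q % 4 = 3 := by
    obtain ⟨t, rfl⟩ := hq
    omega
  have hq1 : 1 ≤ q := by
    obtain ⟨t, rfl⟩ := hq
    omega
  rcases h with ⟨h1, h2, h3⟩ | ⟨h1, h2, h3⟩
  · rcases eta_eq hk h1 with ⟨a1, a2, a3⟩ | ⟨a1, a2, a3⟩
    · right
      subst a2
      refine ⟨a1, Or.inl ⟨rfl, ?_⟩⟩
      intro h4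
      apply h3
      rw [tn, if_neg (Nat.not_even_iff_odd.2 a1)]
      have := pow_mod_eight_odd hq a1
      have h5 : 1 ≤ q ^ k := Nat.one_le_pow _ _ hq1
      omega
    · rw [a3] at h2
      norm_num at h2
  · rcases eta_eq hk h1 with ⟨a1, a2, a3⟩ | ⟨a1, a2, a3⟩
    · left
      rw [a3] at h3
      refine ⟨?_, Or.inl ⟨a2, by omega⟩⟩
      obtain ⟨j, hj⟩ := a1
      exact ⟨j + 1, by omega⟩
    · rw [a3] at h3
      rcases Nat.even_or_odd m with h4 | h4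
      · left
        exact ⟨h4, Or.inr ⟨a2, by omega⟩⟩
      · right
        exact ⟨h4, Or.inr ⟨a2, by omega⟩⟩

theorem far_minus {m : ℕ} (hm : 4 ≤ m) {q k : ℕ} (hq : Odd q) (hk : 1 ≤ k)
    (h : (eta k = m ∧ sg k = -1 ∧ ¬ 8 ∣ tn q k) ∨ (eta k = m - 1 ∧ ¬ 4 ∣ tn q k ∧ ¬ (4 : ℤ) ∣ (q : ℤ) - sg k * (-1))) :
    (Even m ∧ k = 2 * m) ∨
      (Odd m ∧ ((k = 2 * m ∧ q % 8 ≠ 7) ∨ (k = 2 * (m - 1) ∧ q % 4 = 3))) := by
  have hq4 : q % 4 = 1 ∨ q % 4 = 3 := by
    obtain ⟨t, rfl⟩ := hq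
    omega
  have hq1 : 1 ≤ q := by
    obtain ⟨t, rfl⟩ := hq
    omega
  rcases h with ⟨h1, h2, h3⟩ | ⟨h1, h2, h3⟩
  · rcases eta_eq hk h1 with ⟨a1, a2, a3⟩ | ⟨a1, a2, a3⟩
    · rw [a3] at h2
      norm_num at h2
    · rcases Nat.even_or_odd m with h4 | h4
      · exact Or.inl ⟨h4, a2⟩
      · right
        refine ⟨h4, Or.inl ⟨a2, ?_⟩⟩
        intro h5
        apply h3
        rw [tn, if_pos a1, a2, Nat.mul_div_cancel_left _ (by norm_num)]
        have := pow_mod_eight_odd hq h4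
        omega
  · rcases eta_eq hk h1 with ⟨a1, a2, a3⟩ | ⟨a1, a2, a3⟩
    · exfalso
      rw [a3] at h3
      rw [tn, if_neg (Nat.not_even_iff_odd.2 a1)] at h2
      have := pow_mod_eight_odd hq a1
      have h5 : 1 ≤ q ^ k := Nat.one_le_pow _ _ hq1
      omega
    · rw [a3] at h3
      rcases Nat.even_or_odd m with h4 | h4
      · exfalso
        rw [tn, if_pos a1, a2, Nat.mul_div_cancel_left _ (by norm_num)] at h2
        have h5 : Odd (m - 1) := by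
          obtain ⟨j, hj⟩ := h4
          exact ⟨j - 1, by omega⟩
        have := pow_mod_eight_odd hq h5
        omega
      · right
        exact ⟨h4, Or.inr ⟨a2, by omega⟩⟩

/-- **`PΩ⁺_{2m}(q)`, `q` odd** -/
theorem TwoSep.oplus {m r s : ℕ} (hm : 4 ≤ m) (hodd : Odd (Nat.card F))
    (h : TwoSep (Cfsg.POmega F (Cfsg.quadFormPlus m F)) r s) : Odd m ∧ Nat.card F % 8 = 5 ∧
      ((ee (Nat.card F) r = m ∧ ee (Nat.card F) s = 2 * (m - 1)) ∨
        (ee (Nat.card F) r = 2 * (m - 1) ∧ ee (Nat.card F) s = m)) := by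
  have key : ∀ {a : ℕ}, a.Prime → a ≠ 2 → a ∣ Nat.card (Cfsg.POmega F (Cfsg.quadFormPlus m F)) →
      (¬ ∃ x : Cfsg.POmega F (Cfsg.quadFormPlus m F), orderOf x = 2 * a) → ¬ a ∣ Nat.card F ∧
        ((Even m ∧ ((ee (Nat.card F) a = m - 1 ∧ Nat.card F % 4 = 3) ∨ (ee (Nat.card F) a = 2 * (m - 1) ∧ Nat.card F % 4 = 1))) ∨
          (Odd m ∧ ((ee (Nat.card F) a = m ∧ Nat.card F % 8 ≠ 1) ∨ (ee (Nat.card F) a = 2 * (m - 1) ∧ Nat.card F % 4 = 1)))) := by
    intro a ha ha2 had hfar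
    obtain ⟨h1, h2⟩ := far_class (F := F) hm (Or.inl rfl) ha ha2 (fun haq => plus_class hm ha haq had)
      (fun N hN0 hN hdN => hfar (by
        obtain ⟨g, hg⟩ := hN.plus hm
        exact Cfsg.Agent.H376.SpEmb.exists_of_dvd hN0.ne' hdN ⟨g, hg⟩))
    exact ⟨h1, far_plus hm hodd (ee_pos ha h1) h2⟩
  obtain ⟨a1, a2⟩ := key h.pr h.r2 h.dr h.far_r
  obtain ⟨b1, b2⟩ := key h.ps h.s2 h.ds h.far_s
  have hne : ee (Nat.card F) r ≠ ee (Nat.card F) s := fun he =>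
    h.sep (plus_clq hm h.pr h.ps h.r2 h.s2 h.ne a1 b1 he (plus_class hm h.pr a1 h.dr))
  rcases a2 with ⟨a2, a3⟩ | ⟨a2, a3⟩ <;> rcases b2 with ⟨b2, b3⟩ | ⟨b2, b3⟩
  · omega
  · exact absurd b2 (Nat.not_odd_iff_even.2 a2)
  · exact absurd a2 (Nat.not_odd_iff_even.2 b2)
  · refine ⟨a2, ?_, ?_⟩ <;> omega

/-- **`PΩ⁻_{2m}(q)`, `q` odd** -/
theorem TwoSep.ominus {m r s : ℕ} (hm : 4 ≤ m) (hodd : Odd (Nat.card F)) {a b : F}
    (hab : ∀ z₁ z₂ : F, z₁ ^ 2 + a * z₁ * z₂ + b * z₂ ^ 2 = 0 → z₁ = 0 ∧ z₂ = 0)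
    (h : TwoSep (Cfsg.POmega F (Cfsg.quadFormMinus (m - 1) F a b)) r s) : Odd m ∧ Nat.card F % 8 = 3 ∧
      ((ee (Nat.card F) r = 2 * m ∧ ee (Nat.card F) s = 2 * (m - 1)) ∨
        (ee (Nat.card F) r = 2 * (m - 1) ∧ ee (Nat.card F) s = 2 * m)) := by
  have key : ∀ {c : ℕ}, c.Prime → c ≠ 2 → c ∣ Nat.card (Cfsg.POmega F (Cfsg.quadFormMinus (m - 1) F a b)) →
      (¬ ∃ x : Cfsg.POmega F (Cfsg.quadFormMinus (m - 1) F a b), orderOf x = 2 * c) → ¬ c ∣ Nat.card F ∧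
        ((Even m ∧ ee (Nat.card F) c = 2 * m) ∨
          (Odd m ∧ ((ee (Nat.card F) c = 2 * m ∧ Nat.card F % 8 ≠ 7) ∨ (ee (Nat.card F) c = 2 * (m - 1) ∧ Nat.card F % 4 = 3)))) := by
    intro c hc hc2 hcd hfar
    obtain ⟨h1, h2⟩ := far_class (F := F) hm (Or.inr rfl) hc hc2 (fun hcq => minus_class hm hab hc hc2 hcq hcd)
      (fun N hN0 hN hdN => hfar (by
        obtain ⟨g, hg⟩ := hN.minus hm hab
        exact Cfsg.Agent.H376.SpEmb.exists_of_dvd hN0.ne' hdN ⟨g, hg⟩))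
    exact ⟨h1, far_minus hm hodd (ee_pos hc h1) h2⟩
  obtain ⟨a1, a2⟩ := key h.pr h.r2 h.dr h.far_r
  obtain ⟨b1, b2⟩ := key h.ps h.s2 h.ds h.far_s
  have hne : ee (Nat.card F) r ≠ ee (Nat.card F) s := fun he =>
    h.sep (minus_clq hm hab h.pr h.ps h.r2 h.s2 h.ne a1 b1 he (minus_class hm hab h.pr h.r2 a1 h.dr))
  rcases a2 with ⟨a2, a3⟩ | ⟨a2, a3⟩ <;> rcases b2 with ⟨b2, b3⟩ | ⟨b2, b3⟩
  · omega
  · exact absurd b2 (Nat.not_odd_iff_even.2 a2)
  · exact absurd a2 (Nat.not_odd_iff_even.2 b2)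
  · refine ⟨a2, ?_, ?_⟩ <;> omega

end

end Cfsg.Agent.H356
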